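import Cfsg.Agent.Omega.NOThreeL.ATwo.Fam
import Cfsg.Agent.Mrg.Omega.NOThreeL.Star
import Cfsg.Agent.Mrg.Omega.NOThreeL.RStr.Act
import Cfsg.Agent.Mrg.Omega.NOThreeL.RTools.Two
import Cfsg.Agent.Mrg.Omega.FrameI
import Cfsg.Agent.PLocal.OffenderStep

-- merged: Cfsg.Agent.Omega.NOThreeL.RBig.AxR
section

/-!
# NO-3L, box R, (A), `q > 2`: THEOREM EXACT with radical, abstract form (#19602 (4), helper797)

As `AFour.Ax` (helper884), without the point group `Z`, without `o2`, with the property `fix` for all of `im L`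
(`= R = ∏ R i`): an element of `M` fixing a full vector `L x` maps `R` into all `K j`.

`M` normalises the elementary abelian group `U`; `L : (ι → F) → G` is an injective homomorphism with values in all
`K i ≤ U`; `R i = {L (single i c)}`; `N i ≤ M` centralises `K i` and `{[u, t] | t ∈ N i} = R i` for all
`u ∈ U - K i`; `|U : K i| ≤ |F|`, `|F| > 2`. Axes are the `M`-conjugates of the `K i`; some axis does not contain `R`.

* `AxR.six` : an axis which does not contain `R` contains no full vector `L x`, `x i ≠ 0` for all `i`;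
* `AxR.seven` : it contains all `R l` but one, `R i`, and `U = R i × g` (`NN i g`);
* `AxR.noedge`, `AxR.claim`;
* `AxR.exact` : for all `i`, `U = (⋂_{l ≠ i} K l) (K i)` and `|U| = |F| |K i|`.
-/

set_option autoImplicit false
set_option Elab.async false

namespace Cfsg.Agent.Omega.NOThreeL.RBig.AxR

open Subgroup Cfsg.Agent.ZN Cfsg.Agent.ZN.ChoiceBase
open Cfsg.Agent.Omega.NOThreeL.ATwo (YY le_YY YY_le cj_YY_le card_YY_le)

universe u

variable {G : Type u} [Group G] {F : Type*} [Field F] {ι : Type*} [DecidableEq ι]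

/-- The family of axes, centres and root groups. -/
structure AxR (M U : Subgroup G) (K R N : ι → Subgroup G) (L : (ι → F) → G) : Prop where
  MU : ∀ m ∈ M, ∀ u ∈ U, m * u * m⁻¹ ∈ U
  ab : ∀ u ∈ U, ∀ v ∈ U, u * v = v * u
  sq : ∀ u ∈ U, u * u = 1
  KU : ∀ i, K i ≤ U
  add : ∀ x y, L (x + y) = L x * L y
  inj : Function.Injective L
  LK : ∀ x i, L x ∈ K i
  memR : ∀ i g, g ∈ R i ↔ ∃ c : F, L (Pi.single i c) = g
  NM : ∀ i, N i ≤ M
  cent : ∀ i, ∀ a ∈ K i, ∀ t ∈ N i, a * t = t * a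
  comm : ∀ i, ∀ u ∈ U, ∀ t ∈ N i, u * t * u⁻¹ * t⁻¹ ∈ R i
  full : ∀ i, ∀ u ∈ U, u ∉ K i → ∀ y ∈ R i, ∃ t ∈ N i, u * t * u⁻¹ * t⁻¹ = y
  idx : ∀ i, Nat.card U ≤ Nat.card F * Nat.card (K i)
  trans : ∀ i j, ∃ s ∈ M, cj s (K i) = K j ∧ (∀ w, ∃ w', s * L w * s⁻¹ = L w') ∧
    ∃ d : F, s * L (Pi.single i 1) * s⁻¹ = L (Pi.single j d)
  ex : ∃ x ∈ M, ∃ j w, L w ∉ cj x (K j)
  fix : ∀ x : ι → F, (∀ i, x i ≠ 0) → ∀ t ∈ M, t * L x = L x * t → ∀ w j, t * L w * t⁻¹ ∈ K j

namespace AxR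

variable {M U : Subgroup G} {K R N : ι → Subgroup G} {L : (ι → F) → G} (h : AxR M U K R N L)
include h

theorem L_zero : L 0 = 1 := by
  have h1 := h.add 0 0
  rw [add_zero] at h1
  exact (mul_eq_left.1 h1.symm)

theorem RK (i j : ι) : R i ≤ K j := by
  intro g hg
  obtain ⟨c, rfl⟩ := (h.memR i g).1 hg
  exact h.LK _ j

theorem L_mem_R (i : ι) (c : F) : L (Pi.single i c) ∈ R i := (h.memR i _).2 ⟨c, rfl⟩

theorem sq' {u : G} (hu : u ∈ U) : u⁻¹ = u := inv_eq_of_mul_eq_one_left (h.sq u hu)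

theorem cjU {x : G} (hx : x ∈ M) {u : G} (hu : u ∈ U) : x⁻¹ * u * x ∈ U := by
  have := h.MU x⁻¹ (inv_mem hx) u hu
  rwa [inv_inv] at this

theorem cjKU {x : G} (hx : x ∈ M) (i : ι) : cj x (K i) ≤ U := by
  intro u hu
  rw [mem_cj] at hu
  have h1 := h.MU x hx _ (h.KU i hu)
  have e : x * (x⁻¹ * u * x) * x⁻¹ = u := by group
  rwa [e] at h1

theorem YY_le_self (B : Subgroup G) : YY M K R B ≤ B := by
  refine YY_le fun i x _ he => ?_
  rw [← he]
  exact cj_mono x (h.RK i i)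

/-- Elements of conjugate root groups. -/
theorem comm' {x : G} (hx : x ∈ M) {i : ι} {u t : G} (hu : u ∈ U) (ht : t ∈ cj x (N i)) :
    u * t * u⁻¹ * t⁻¹ ∈ cj x (R i) := by
  rw [mem_cj] at ht ⊢
  have h1 := h.comm i _ (h.cjU hx hu) _ ht
  have e : x⁻¹ * (u * t * u⁻¹ * t⁻¹) * x =
    x⁻¹ * u * x * (x⁻¹ * t * x) * (x⁻¹ * u * x)⁻¹ * (x⁻¹ * t * x)⁻¹ := by group
  rwa [e]

theorem full' {x : G} (hx : x ∈ M) {i : ι} {u y : G} (hu : u ∈ U) (huA : u ∉ cj x (K i)) (hy : y ∈ cj x (R i)) :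
    ∃ t ∈ cj x (N i), u * t * u⁻¹ * t⁻¹ = y := by
  rw [mem_cj] at huA hy
  obtain ⟨t, ht, he⟩ := h.full i _ (h.cjU hx hu) huA _ hy
  refine ⟨x * t * x⁻¹, ?_, ?_⟩
  · rw [mem_cj]
    have e : x⁻¹ * (x * t * x⁻¹) * x = t := by group
    rwa [e]
  · calc u * (x * t * x⁻¹) * u⁻¹ * (x * t * x⁻¹)⁻¹ =
        x * (x⁻¹ * u * x * t * (x⁻¹ * u * x)⁻¹ * t⁻¹) * x⁻¹ := by group
      _ = y := by rw [he]; group

theorem cent' {x : G} {i : ι} {a t : G} (ha : a ∈ cj x (K i)) (ht : t ∈ cj x (N i)) : a * t = t * a := by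
  rw [mem_cj] at ha ht
  have h1 := h.cent i _ ha _ ht
  calc a * t = x * ((x⁻¹ * a * x) * (x⁻¹ * t * x)) * x⁻¹ := by group
    _ = x * ((x⁻¹ * t * x) * (x⁻¹ * a * x)) * x⁻¹ := by rw [h1]
    _ = t * a := by group

theorem NM' {x : G} (hx : x ∈ M) {i : ι} {t : G} (ht : t ∈ cj x (N i)) : t ∈ M := by
  rw [mem_cj] at ht
  have e : t = x * (x⁻¹ * t * x) * x⁻¹ := by group
  rw [e]
  exact mul_mem (mul_mem hx (h.NM i ht)) (inv_mem hx)

omit h in
/-- A root element whose centre is in `B` normalises `B`. -/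
theorem cj_le {t : G} {B : Subgroup G} (hB : B ≤ U) (hc : ∀ u ∈ U, u * t * u⁻¹ * t⁻¹ ∈ B) : cj t B ≤ B := by
  intro b hb
  rw [mem_cj] at hb
  have h1 := hc _ (hB hb)
  have e : t⁻¹ * b * t * t * (t⁻¹ * b * t)⁻¹ * t⁻¹ = t⁻¹ * b * t * b⁻¹ := by group
  rw [e] at h1
  have h2 := mul_mem (inv_mem h1) hb
  have e2 : (t⁻¹ * b * t * b⁻¹)⁻¹ * (t⁻¹ * b * t) = b := by group
  rwa [e2] at h2

variable [Finite G]

omit h in
theorem cj_eq {t : G} {B : Subgroup G} (hB : B ≤ U) (hc : ∀ u ∈ U, u * t * u⁻¹ * t⁻¹ ∈ B) : cj t B = B :=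
  Subgroup.eq_of_le_of_card_ge (cj_le hB hc) (card_cj t B).ge

/-- **Symmetry.** -/
theorem symm {g g' : G} (hg : g ∈ M) (hg' : g' ∈ M) {i j : ι}
    (hle : YY M K R (cj g (K i)) ≤ cj g' (K j)) : YY M K R (cj g' (K j)) ≤ cj g (K i) := by
  set a := cj g (K i) with ha
  set b := cj g' (K j) with hb
  have hbU : b ≤ U := h.cjKU hg' j
  by_contra hcon
  obtain ⟨f, hf, hfa⟩ := SetLike.not_le_iff_exists.mp hcon
  have hfU : f ∈ U := hbU (h.YY_le_self b hf)
  have key : YY M K R a ≤ YY M K R b := by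
    refine YY_le fun l x hx he => ?_
    intro y hy
    obtain ⟨t, ht, hty⟩ := h.full' hx hfU (by rw [he]; exact hfa) hy
    have htM := h.NM' hx ht
    have hcen : cj x (R l) ≤ b := (le_YY hx he).trans hle
    have h2 : cj t b = b := cj_eq hbU fun u hu => hcen (h.comm' hx hu ht)
    have h3 : cj t (YY M K R b) ≤ YY M K R b := by
      have := cj_YY_le (A := K) (Yc := R) htM b
      rwa [h2] at this
    have h4 : t * f⁻¹ * t⁻¹ ∈ YY M K R b := h3 (by
      rw [mem_cj]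
      have e : t⁻¹ * (t * f⁻¹ * t⁻¹) * t = f⁻¹ := by group
      rw [e]
      exact inv_mem hf)
    rw [← hty]
    have e : f * t * f⁻¹ * t⁻¹ = f * (t * f⁻¹ * t⁻¹) := by group
    rw [e]
    exact mul_mem hf h4
  obtain ⟨s, hs, hse, -⟩ := h.trans i j
  have hab : cj (g' * s * g⁻¹) a = b := by
    rw [ha, hb, cj_cj, ← hse, cj_cj]
    congr 1
    group
  have h5 : Nat.card (YY M K R b) ≤ Nat.card (YY M K R a) := by
    have hba : cj (g' * s * g⁻¹)⁻¹ b = a := by rw [← hab, cj_inv_cj]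
    have := card_YY_le (A := K) (Yc := R) (inv_mem (mul_mem (mul_mem hg' hs) (inv_mem hg))) b
    rwa [hba] at this
  have h6 := Subgroup.eq_of_le_of_card_ge key h5
  rw [← h6] at hf
  exact hfa (h.YY_le_self a hf)

omit [Finite G] [DecidableEq ι] h in
/-- If `YY B` is not contained in `A`, some conjugate of an `R j` is not. -/
theorem exists_not_le {A B : Subgroup G} (hn : ¬ YY M K R B ≤ A) :
    ∃ j, ∃ x ∈ M, cj x (K j) = B ∧ ∃ y ∈ cj x (R j), y ∉ A := by
  by_contra hcon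
  push Not at hcon
  exact hn (YY_le fun j x hx he y hy => hcon j x hx he y hy)

omit [Finite G] in
/-- A subgroup containing all components contains `L x`. -/
theorem L_mem [Fintype ι] {A : Subgroup G} {x : ι → F} (hA : ∀ i, L (Pi.single i (x i)) ∈ A) : L x ∈ A := by
  have key : ∀ s : Finset ι, L (∑ i ∈ s, Pi.single i (x i)) ∈ A := by
    intro s
    induction s using Finset.induction_on with
    | empty => rw [Finset.sum_empty, h.L_zero]; exact one_mem _
    | insert a s ha ih => rw [Finset.sum_insert ha, h.add]; exact mul_mem (hA a) ih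
  have h1 := key Finset.univ
  rwa [Finset.univ_sum_single] at h1

/-- **(6)** an axis which does not contain `im L` contains no full vector. -/
theorem six {x : G} (hx : x ∈ M) {j : ι} {w : ι → F} (hZ : L w ∉ cj x (K j)) {v : ι → F}
    (hv : ∀ i, v i ≠ 0) [Fintype ι] : L v ∉ cj x (K j) := by
  intro hmem
  have hzU : L w ∈ U := h.KU j (h.LK w j)
  apply hZ
  have key : ∀ i, YY M K R (cj x (K j)) ≤ K i := by
    intro i
    refine YY_le fun l x' hx' he y hy => ?_
    obtain ⟨t, ht, hty⟩ := h.full' hx' hzU (by rw [he]; exact hZ) hy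
    have h1 : t * L v = L v * t := (h.cent' (by rw [he]; exact hmem) ht).symm
    have h2 := h.fix v hv t (h.NM' hx' ht) h1 w i
    have h3 : L w ∈ K i := h.LK w i
    have h4 := mul_mem h3 (inv_mem h2)
    have e : L w * (t * L w * t⁻¹)⁻¹ = L w * t * (L w)⁻¹ * t⁻¹ := by group
    rw [e, hty] at h4
    exact h4
  have h5 : ∀ i, R i ≤ cj x (K j) := by
    intro i
    have h2 : YY M K R (cj 1 (K i)) ≤ cj x (K j) := h.symm hx (one_mem M) (by rw [cj_one]; exact key i)
    rw [cj_one] at h2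
    have h3 : cj 1 (R i) ≤ YY M K R (K i) := le_YY (one_mem M) (cj_one _)
    rw [cj_one] at h3
    exact h3.trans h2
  exact h.L_mem fun i => h5 i (h.L_mem_R i _)

omit [Finite G] in
theorem L_neg (x : ι → F) : L (-x) = (L x)⁻¹ := by
  have h1 := h.add x (-x)
  rw [add_neg_cancel, h.L_zero] at h1
  exact (inv_eq_of_mul_eq_one_right h1.symm).symm

omit [Finite G] [DecidableEq ι] h in
theorem exists_ne [Finite F] (hF : 2 < Nat.card F) (y : F) : ∃ w : F, w ≠ 0 ∧ w + y ≠ 0 := by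
  classical
  by_contra hcon
  push Not at hcon
  have : Fintype F := Fintype.ofFinite F
  have h1 : (Finset.univ : Finset F) ⊆ {0, -y} := by
    intro w _
    rw [Finset.mem_insert, Finset.mem_singleton]
    by_cases h0 : w = 0
    · exact Or.inl h0
    · exact Or.inr (eq_neg_of_add_eq_zero_left (hcon w h0))
  have h2 := Finset.card_le_card h1
  have h3 : ({0, -y} : Finset F).card ≤ 2 := Finset.card_le_two
  rw [Finset.card_univ, ← Nat.card_eq_fintype_card] at h2
  omega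

/-- The axes which contain all `R l`, `l ≠ i`, and are complements of `R i`. -/
def NN (U : Subgroup G) (L : (ι → F) → G) (i : ι) (g : Subgroup G) : Prop :=
  (∀ x : ι → F, x i = 0 → L x ∈ g) ∧ (∀ c : F, c ≠ 0 → L (Pi.single i c) ∉ g) ∧
    ∀ u ∈ U, ∃ c : F, ∃ a ∈ g, u = L (Pi.single i c) * a

/-- **(7)** -/
theorem seven [Fintype ι] [Finite F] (hF : 2 < Nat.card F) {x : G} (hx : x ∈ M) {j : ι}
    {w₀ : ι → F} (hZ : L w₀ ∉ cj x (K j)) :
    (∃ i, NN U L i (cj x (K j))) ∧ Nat.card U = Nat.card F * Nat.card (K j) := by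
  set g := cj x (K j) with hg
  have hgU : g ≤ U := h.cjKU hx j
  have six := fun (v : ι → F) (hv : ∀ i, v i ≠ 0) => h.six hx hZ hv
  rw [← hg] at six
  obtain ⟨i, hi⟩ : ∃ i, ∀ c : F, c ≠ 0 → L (Pi.single i c) ∉ g := by
    by_contra hcon
    push Not at hcon
    choose v hv hvg using hcon
    exact six v hv (h.L_mem hvg)
  -- `U = R i × g`
  have hLU : ∀ v, L v ∈ U := fun v => h.KU i (h.LK v i)
  let f : F → U ⧸ g.subgroupOf U := fun c => QuotientGroup.mk ⟨L (Pi.single i c), hLU _⟩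
  have hinj : Function.Injective f := by
    intro c d hcd
    have h1 := QuotientGroup.eq.1 hcd
    rw [mem_subgroupOf] at h1
    change (L (Pi.single i c))⁻¹ * L (Pi.single i d) ∈ g at h1
    rw [← h.L_neg, ← h.add, ← Pi.single_neg, ← Pi.single_add] at h1
    by_contra hne
    exact hi _ (fun h0 => hne (by rw [neg_add_eq_zero] at h0; exact h0)) h1
  have hcg : Nat.card (g.subgroupOf U) = Nat.card (K j) := by
    rw [Nat.card_congr (subgroupOfEquivOfLe hgU).toEquiv, hg, card_cj]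
  have hcU : Nat.card U = Nat.card (U ⧸ g.subgroupOf U) * Nat.card (K j) := by
    rw [card_eq_card_quotient_mul_card_subgroup (g.subgroupOf U), hcg]
  have hle : Nat.card (U ⧸ g.subgroupOf U) ≤ Nat.card F := by
    have h1 := h.idx j
    rw [hcU] at h1
    exact Nat.le_of_mul_le_mul_right h1 Nat.card_pos
  have hbij := hinj.bijective_of_nat_card_le hle
  have hsur : ∀ u ∈ U, ∃ c : F, ∃ a ∈ g, u = L (Pi.single i c) * a := by
    intro u hu
    obtain ⟨c, hc⟩ := hbij.2 (QuotientGroup.mk ⟨u, hu⟩)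
    have h1 := QuotientGroup.eq.1 hc
    rw [mem_subgroupOf] at h1
    exact ⟨c, _, h1, by
      change u = L (Pi.single i c) * ((L (Pi.single i c))⁻¹ * u)
      group⟩
  have hfull : ∀ y : ι → F, y i = 0 → (∀ l, l ≠ i → y l ≠ 0) → L y ∈ g := by
    intro y hy hyl
    obtain ⟨c, a, ha, he⟩ := hsur (L y) (hLU y)
    by_cases hc : c = 0
    · rw [he, hc, Pi.single_zero, h.L_zero, one_mul]
      exact ha
    · exfalso
      have h1 : a = L (-Pi.single i c + y) := by rw [h.add, h.L_neg, he]; group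
      refine six (-Pi.single i c + y) (fun l => ?_) (by rw [← h1]; exact ha)
      by_cases hl : l = i
      · rw [hl, Pi.add_apply, Pi.neg_apply, Pi.single_eq_same, hy, add_zero]
        exact neg_ne_zero.2 hc
      · rw [Pi.add_apply, Pi.neg_apply, Pi.single_eq_of_ne hl, neg_zero, zero_add]
        exact hyl l hl
  refine ⟨⟨i, fun y hy => ?_, hi, hsur⟩, ?_⟩
  · choose w hw hwy using fun l => exists_ne hF (y l)
    have h1 : L (Function.update w i 0) ∈ g := by
      refine hfull _ (Function.update_self _ _ _) fun l hl => ?_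
      rw [Function.update_of_ne hl]
      exact hw l
    have h2 : L (Function.update w i 0 + y) ∈ g := by
      refine hfull _ ?_ fun l hl => ?_
      · rw [Pi.add_apply, Function.update_self, hy, add_zero]
      · rw [Pi.add_apply, Function.update_of_ne hl]
        exact hwy l
    rw [h.add] at h2
    exact (mul_mem_cancel_left h1).1 h2
  · rw [hcU]
    congr 1
    exact (Nat.card_eq_of_bijective f hbij).symm

omit [Finite G] in
/-- A root element acts on `r`: `t r t⁻¹ = [r, t] r`. -/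
theorem conj_root {r t y : G} (hy : y ∈ U) (ht : r * t * r⁻¹ * t⁻¹ = y) : t * r * t⁻¹ = y * r := by
  have h2 : t * r⁻¹ * t⁻¹ = r⁻¹ * y := by rw [← ht]; group
  have h3 : t * r * t⁻¹ = (t * r⁻¹ * t⁻¹)⁻¹ := by group
  rw [h3, h2, mul_inv_rev, inv_inv, h.sq' hy]

/-- **(8)** no edge between `NN i` and `NN i'`. -/
theorem noedge [Fintype ι] [CharP F 2] {x2 x3 : G} (hx3 : x3 ∈ M)
    {j2 j3 i i' : ι} (hne : i ≠ i') (h2 : NN U L i' (cj x2 (K j2))) (h3 : NN U L i (cj x3 (K j3))) :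
    YY M K R (cj x2 (K j2)) ≤ cj x3 (K j3) := by
  set g2 := cj x2 (K j2) with hg2
  set g3 := cj x3 (K j3) with hg3
  by_contra hcon
  obtain ⟨l, x, hx, he, y, hy, hyg⟩ := exists_not_le hcon
  have hyU : y ∈ U := h.cjKU hx l (cj_mono x (h.RK l l) hy)
  have hLU : ∀ v, L v ∈ U := fun v => h.KU i (h.LK v i)
  obtain ⟨c, a, ha, hya⟩ := h3.2.2 y hyU
  have hc : c ≠ 0 := by
    rintro rfl
    apply hyg
    rw [hya, Pi.single_zero, h.L_zero, one_mul]
    exact ha
  obtain ⟨t, ht, hty⟩ := h.full' hx (hLU (Pi.single i' 1)) (by rw [he]; exact h2.2.1 1 one_ne_zero) hy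
  have htM := h.NM' hx ht
  -- the full vector
  set v : ι → F := Function.update (fun _ => 1) i c with hv
  have hvf : ∀ l, v l ≠ 0 := by
    intro l
    by_cases hl : l = i
    · rw [hv, hl, Function.update_self]; exact hc
    · rw [hv, Function.update_of_ne hl]; exact one_ne_zero
  have hfixL : ∀ w : ι → F, w i' = 0 → t * L w * t⁻¹ = L w := by
    intro w hw
    have h1 : L w ∈ cj x (K l) := by rw [he]; exact h2.1 w hw
    have h4 := h.cent' h1 ht
    rw [← h4]; group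
  have htv : t * L v * t⁻¹ = y * L v := by
    have e1 : v = Pi.single i' 1 + (v - Pi.single i' 1) := by abel
    have h4 : (v - Pi.single i' (1 : F) : ι → F) i' = 0 := by
      rw [Pi.sub_apply, Pi.single_eq_same, hv, Function.update_of_ne hne.symm, sub_self]
    have h5 := hfixL _ h4
    have h6 := h.conj_root hyU hty
    calc t * L v * t⁻¹ = (t * L (Pi.single i' 1) * t⁻¹) * (t * L (v - Pi.single i' 1) * t⁻¹) := by
          rw [e1, h.add, ← e1]; group
      _ = y * (L (Pi.single i' 1) * L (v - Pi.single i' 1)) := by rw [h5, h6, mul_assoc]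
      _ = y * L v := by rw [← h.add, ← e1]
  have htg : t * L v * t⁻¹ ∈ g3 := by
    rw [htv, hya, h.ab _ (hLU _) a (h.cjKU hx3 j3 ha), mul_assoc, ← h.add]
    refine mul_mem ha (h3.1 _ ?_)
    rw [Pi.add_apply, Pi.single_eq_same, hv, Function.update_self]
    exact CharTwo.add_self_eq_zero c
  -- the axis `g3 ^ (t⁻¹)`
  have hmem : L v ∈ cj (t⁻¹ * x3) (K j3) := by
    rw [← cj_cj, ← hg3, mem_cj, inv_inv]
    exact htg
  have hx' : t⁻¹ * x3 ∈ M := mul_mem (inv_mem htM) hx3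
  have h5 : L (Pi.single i 1) ∈ cj (t⁻¹ * x3) (K j3) := by
    by_contra hZ
    exact h.six hx' hZ hvf hmem
  rw [← cj_cj, ← hg3, mem_cj, inv_inv] at h5
  have h6 : (Pi.single i (1 : F) : ι → F) i' = 0 := Pi.single_eq_of_ne hne.symm _
  rw [hfixL _ h6] at h5
  exact h3.2.1 1 one_ne_zero h5

/-- `NN i` is not empty. -/
theorem exists_NN [Fintype ι] [Finite F] (hF : 2 < Nat.card F) (i : ι) :
    ∃ x ∈ M, ∃ j, NN U L i (cj x (K j)) := by
  obtain ⟨x, hx, j, w, hw⟩ := h.ex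
  obtain ⟨m, hm⟩ := (h.seven hF hx hw).1
  obtain ⟨s, hs, hsK, hsZ, d, hd⟩ := h.trans m i
  refine ⟨s * x, mul_mem hs hx, j, ?_⟩
  obtain ⟨w', hw'⟩ := hsZ w
  have hZ' : L w' ∉ cj (s * x) (K j) := by
    intro hle
    apply hw
    rw [← hw', ← cj_cj, mem_cj] at hle
    have e : s⁻¹ * (s * L w * s⁻¹) * s = L w := by group
    rwa [e] at hle
  obtain ⟨m', hm'⟩ := (h.seven hF (mul_mem hs hx) hZ').1
  by_cases hmi : m' = i
  · rw [hmi] at hm'
    exact hm'
  · exfalso
    have h1 : L (Pi.single i d) ∈ cj (s * x) (K j) := hm'.1 _ (Pi.single_eq_of_ne hmi _)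
    rw [← hd, ← cj_cj, mem_cj] at h1
    have e : s⁻¹ * (s * L (Pi.single m 1) * s⁻¹) * s = L (Pi.single m 1) := by group
    rw [e] at h1
    exact hm.2.1 1 one_ne_zero h1

/-- **(9)** the centre of `g ∈ NN i` is contained in `K l`, `l ≠ i`. -/
theorem claim [Fintype ι] [Finite F] [CharP F 2] (hF : 2 < Nat.card F) {x : G} (hx : x ∈ M) {i j l : ι}
    (hn : NN U L i (cj x (K j))) (hl : l ≠ i) : YY M K R (cj x (K j)) ≤ K l := by
  set g := cj x (K j) with hg
  by_contra hcon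
  obtain ⟨x2, hx2, j2, h2⟩ := h.exists_NN hF l
  set g2 := cj x2 (K j2) with hg2
  -- `g2` and `K l` are adjacent
  have h3 : ¬ YY M K R g2 ≤ K l := by
    intro hle
    have h4 : YY M K R (cj 1 (K l)) ≤ g2 := h.symm hx2 (one_mem M) (by rwa [cj_one])
    rw [cj_one] at h4
    have h5 : cj 1 (R l) ≤ YY M K R (K l) := le_YY (one_mem M) (cj_one _)
    rw [cj_one] at h5
    exact h2.2.1 1 one_ne_zero (h4 (h5 (h.L_mem_R l 1)))
  obtain ⟨m, x', hx', he, w, hw, hwK⟩ := exists_not_le h3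
  obtain ⟨z, hz, hzg⟩ : ∃ z, L (Pi.single l (1 : F)) = z ∧ z ∉ g2 := ⟨_, rfl, h2.2.1 1 one_ne_zero⟩
  have hzU : z ∈ U := by rw [← hz]; exact h.KU l (h.LK _ l)
  have hzK : z ∈ K l := by rw [← hz]; exact h.LK _ l
  obtain ⟨t, ht, htw⟩ := h.full' hx' hzU (by rw [he]; exact hzg) hw
  have htM := h.NM' hx' ht
  -- `K l ^ (t⁻¹) ∈ NN l`
  have h4 : z ∉ cj t⁻¹ (K l) := by
    intro h5
    rw [mem_cj, inv_inv] at h5
    apply hwK
    have e : w = z * (t * z * t⁻¹)⁻¹ := by rw [← htw]; group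
    rw [e]
    exact mul_mem hzK (inv_mem h5)
  have h5 : L (Pi.single l (1 : F)) ∉ cj t⁻¹ (K l) := fun hle => h4 (by rwa [hz] at hle)
  obtain ⟨m', hm'⟩ := (h.seven hF (inv_mem htM) h5).1
  have hml : m' = l := by
    by_contra hne
    have h6 : L (Pi.single m' (1 : F)) ∈ cj x' (K m) := by
      rw [he]
      exact h2.1 _ (Pi.single_eq_of_ne (Ne.symm hne) _)
    have h7 := h.cent' h6 ht
    apply hm'.2.1 1 one_ne_zero
    rw [mem_cj, inv_inv, ← h7]
    have e : L (Pi.single m' (1 : F)) * t * t⁻¹ = L (Pi.single m' 1) := by group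
    rw [e]
    exact h.LK _ _
  rw [hml] at hm'
  -- `t` normalises `g`
  have h6 : YY M K R g2 ≤ g := h.noedge hx hl.symm h2 hn
  have h7 : cj t⁻¹ g = g := by
    refine cj_eq (h.cjKU hx j) fun u hu => h6 (le_YY hx' he (h.comm' hx' hu (inv_mem ht)))
  have h8 : YY M K R g ≤ cj t⁻¹ (K l) := h.noedge (inv_mem htM) hl hn hm'
  have h9 : cj t⁻¹ (YY M K R g) ≤ YY M K R g := by
    have := cj_YY_le (A := K) (Yc := R) (inv_mem htM) g
    rwa [h7] at this
  apply hcon
  intro y hy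
  have h10 : t⁻¹ * y * t ∈ YY M K R g := h9 (by
    rw [mem_cj, inv_inv]
    have e : t * (t⁻¹ * y * t) * t⁻¹ = y := by group
    rwa [e])
  have h11 := h8 h10
  rw [mem_cj, inv_inv] at h11
  have e : t * (t⁻¹ * y * t) * t⁻¹ = y := by group
  rwa [e] at h11

/-- **THEOREM EXACT**, abstract form. -/
theorem exact [Fintype ι] [Finite F] [CharP F 2] (hF : 2 < Nat.card F) (i : ι) :
    (∀ u ∈ U, ∃ y ∈ U, (∀ l, l ≠ i → y ∈ K l) ∧ y⁻¹ * u ∈ K i) ∧ Nat.card U = Nat.card F * Nat.card (K i) := by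
  obtain ⟨x, hx, j, hn⟩ := h.exists_NN hF i
  set g := cj x (K j) with hg
  have h3 : ¬ YY M K R g ≤ K i := by
    intro hle
    have h4 : YY M K R (cj 1 (K i)) ≤ g := h.symm hx (one_mem M) (by rwa [cj_one])
    rw [cj_one] at h4
    have h5 : cj 1 (R i) ≤ YY M K R (K i) := le_YY (one_mem M) (cj_one _)
    rw [cj_one] at h5
    exact hn.2.1 1 one_ne_zero (h4 (h5 (h.L_mem_R i 1)))
  obtain ⟨m, x', hx', he, w, hw, hwK⟩ := exists_not_le h3
  -- the axis `K i` with respect to the conjugate under `x'`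
  rw [mem_cj] at hw
  obtain ⟨c, hc⟩ := (h.memR m _).1 hw
  have hw' : L (Pi.single m c) ∉ cj x'⁻¹ (K i) := by
    intro h5
    rw [mem_cj, inv_inv, hc] at h5
    have e : x' * (x'⁻¹ * w * x') * x'⁻¹ = w := by group
    rw [e] at h5
    exact hwK h5
  obtain ⟨⟨m', hm'⟩, hcard⟩ := h.seven hF (inv_mem hx') hw'
  have hmm : m' = m := by
    by_contra hne
    exact hw' (hm'.1 _ (Pi.single_eq_of_ne hne _))
  rw [hmm] at hm'
  refine ⟨fun u hu => ?_, hcard⟩
  obtain ⟨d, a, ha, he2⟩ := hm'.2.2 _ (h.cjU hx' hu)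
  have hyR : x' * L (Pi.single m d) * x'⁻¹ ∈ cj x' (R m) := by
    rw [mem_cj]
    have e : x'⁻¹ * (x' * L (Pi.single m d) * x'⁻¹) * x' = L (Pi.single m d) := by group
    rw [e]
    exact h.L_mem_R m d
  have hyY := le_YY hx' he hyR
  refine ⟨x' * L (Pi.single m d) * x'⁻¹, h.MU x' hx' _ (h.KU i (h.LK _ i)), fun l hl => h.claim hF hx hn hl hyY, ?_⟩
  rw [mem_cj, inv_inv] at ha
  have e : (x' * L (Pi.single m d) * x'⁻¹)⁻¹ * u = x' * a * x'⁻¹ := by
    have e3 : u = x' * (x'⁻¹ * u * x') * x'⁻¹ := by group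
    rw [e3, he2]
    group
  rw [e]
  exact ha

end AxR

end Cfsg.Agent.Omega.NOThreeL.RBig.AxR

end

-- merged: Cfsg.Agent.Mrg.Omega.NOThreeL.RBig.AxRInst
section

/-!
# NO-3L, box R, (A), `q > 2`, `V_P` split: `U_H` induces all upper unitriangular matrices (#19602 (4))

`M : NatK F S P (zl S P) D k`, `V = zl S P = V₀ × D`, `V₀` normal in `P` (`D = C_Z(P)`, `DP`), `H` long,
`[V, U_H] ≠ 1`, `V ≤ O₂(C_G(z))` for all `1 ≠ z ∈ Z ∩ V₀` (`hO`, = (3) of #19602).

* `Spl.axR` : the family `C_U(N_i)`, `lin i`, `N_i = fac i`, `vec` is an `AxR`;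
* **`Spl.ind`** : for all `b` some `u ∈ U_H` acts as `up (b i)`;
* **`Spl.off`** : `U_H` offends on `V_P`.
-/

set_option autoImplicit false
set_option Elab.async false

namespace Cfsg.Agent.Omega.NOThreeL.RBig.AxRInst

open Subgroup Cfsg Cfsg.Agent.Omega.MinPar Cfsg.Agent.Omega.Frame Cfsg.Agent.Omega.FrameNOFF
open Cfsg.Agent.ZN (zl zc o2)
open Cfsg.Agent.ZN.ChoiceBase hiding mem_zc
open Cfsg.Agent.Omega.Node.NO3L Cfsg.Agent.Omega.NOThreeL.Basic
open Cfsg.Agent.Omega.FFThm (Off NatK ActsSL)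
open Cfsg.Agent.Omega.NatPair (ap ap_mul ap_one ap_inv_ap exists_ap)
open Cfsg.Agent.Lib.SL2Mat
open Cfsg.Agent.MinSimple.VModule (zl_le le_normalizer_zl zc_le_zl zc_le mem_zc)
open Cfsg.Agent.Omega.NOThreeL.Pair (zl_abel)
open Cfsg.Agent.Omega.IId (cj_mem cj_mem')
open Cfsg.Agent.Omega.NOThreeL.RStr (e_one e_inv sg sg_spec e_conj_line)
open Cfsg.Agent.Omega.NOThreeL.RBig.AxR (AxR)
open scoped Pointwise

universe u

variable {G : Type u} [Group G] {k : ℕ} {F : Type} [Field F]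

/-! ### upper unitriangular action modulo `D` -/

section up

variable {S P D : Subgroup G} (M : NatK F S P (zl S P) D k)

/-- `u` acts as `up (b i)` on `V / D`. -/
def Up (u : G) (b : Fin k → F) : Prop :=
  ∀ v ∈ zl S P, ∀ i, M.e (u * v * u⁻¹) i = ap (up (b i)) (M.e v i)

variable {M}

theorem Up.mul {u u' : G} {b b' : Fin k → F} (hu' : u' ∈ P) (h : Up M u b) (h' : Up M u' b') :
    Up M (u * u') (b + b') := by
  intro v hv i
  have e : u * u' * v * (u * u')⁻¹ = u * (u' * v * u'⁻¹) * u⁻¹ := by group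
  rw [e, h _ (cj_mem hu' hv) i, h' v hv i, ← ap_mul, up_mul]
  rfl

theorem Up.inv {u : G} {b : Fin k → F} (hu : u ∈ P) (h : Up M u b) : Up M u⁻¹ (-b) := by
  intro v hv i
  have h2 := h _ (cj_mem (inv_mem hu) hv) i
  have e : u * (u⁻¹ * v * u⁻¹⁻¹) * u⁻¹ = v := by group
  rw [e] at h2
  rw [h2]
  change _ = ap (up (-b i)) _
  rw [← up_inv, ap_inv_ap]

theorem Up.cm {u : G} {b : Fin k → F} (hu : u ∈ P) (h : Up M u b) {v : G} (hv : v ∈ zl S P) (i : Fin k) :
    M.e (u * v * u⁻¹ * v⁻¹) i = ![b i * M.e v i 1, 0] := by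
  rw [M.mul _ (cj_mem hu hv) _ (inv_mem hv), Pi.add_apply, h v hv i, e_inv M hv, Pi.neg_apply]
  apply NatPair.ext2
  · rw [Pi.add_apply, NatPair.ap_zero']
    simp only [up_00, up_01, Pi.neg_apply]
    change _ = b i * M.e v i 1
    ring
  · rw [Pi.add_apply, NatPair.ap_one']
    simp only [up_10, up_11, Pi.neg_apply]
    change _ = (0 : F)
    ring

end up

variable [Finite G] {S : Sylow 2 G} {P H D V₀ : Subgroup G}

/-- The split situation, with (3) of #19602 (`hO`). -/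
structure Spl (S : Sylow 2 G) (P H D V₀ : Subgroup G)
    (M : NatK F (S : Subgroup G) P (zl (S : Subgroup G) P) D k) : Prop where
  hc : IsCharacteristicTwoType G
  data : DataLow (S : Subgroup G)
  pair : PairA (S : Subgroup G) P H
  pos : 0 < k
  V₀V : V₀ ≤ zl (S : Subgroup G) P
  nV : P ≤ normalizer (V₀ : Set G)
  inf : V₀ ⊓ D = ⊥
  sup : zl (S : Subgroup G) P ≤ V₀ ⊔ D
  DV : D ≤ zl (S : Subgroup G) P
  hO : ∀ z ∈ zc (S : Subgroup G), z ∈ V₀ → z ≠ 1 → zl (S : Subgroup G) P ≤ o2 (centralizer ({z} : Set G))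

namespace Spl

variable {M : NatK F (S : Subgroup G) P (zl (S : Subgroup G) P) D k} (h : Spl S P H D V₀ M)
include h

theorem SP : (S : Subgroup G) ≤ P := h.pair.par.le

theorem SH : (S : Subgroup G) ≤ H := h.pair.long.loc.le

theorem US : zl (S : Subgroup G) H ≤ (S : Subgroup G) := IsLong.zl_le_S h.hc h.pair.long

theorem UP : zl (S : Subgroup G) H ≤ P := h.US.trans h.SP

theorem VS : zl (S : Subgroup G) P ≤ (S : Subgroup G) := IsParS.zl_le_S h.hc h.pair.par

theorem VH : zl (S : Subgroup G) P ≤ H := h.VS.trans h.SH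

theorem ab : ∀ u ∈ zl (S : Subgroup G) H, ∀ v ∈ zl (S : Subgroup G) H, u * v = v * u := fun u hu v hv =>
  mem_centralizer_iff.1 ((zl_abel h.hc S h.pair.long.loc).1 hv) u hu

theorem sq : ∀ u ∈ zl (S : Subgroup G) H, u * u = 1 := by
  intro u hu
  rw [← pow_two]
  exact (zl_abel h.hc S h.pair.long.loc).2 u hu

theorem abV : ∀ v ∈ zl (S : Subgroup G) P, ∀ w ∈ zl (S : Subgroup G) P, v * w = w * v := fun v hv w hw =>
  mem_centralizer_iff.1 ((zl_abel h.hc S h.pair.par.isLoc).1 hw) v hv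

theorem sqV : ∀ v ∈ zl (S : Subgroup G) P, v * v = 1 := by
  intro v hv
  rw [← pow_two]
  exact (zl_abel h.hc S h.pair.par.isLoc).2 v hv

theorem nrm : ∀ x ∈ H, ∀ u ∈ zl (S : Subgroup G) H, x * u * x⁻¹ ∈ zl (S : Subgroup G) H :=
  fun x hx u hu => (mem_normalizer_iff.1 (le_normalizer_zl _ _ hx) u).1 hu

theorem quad : AFour.Quad (S : Subgroup G) P (zl (S : Subgroup G) H) where
  SP := h.SP
  VS := h.VS
  US := h.US
  SU := h.SH.trans (le_normalizer_zl _ _)
  ab := h.ab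
  sq := h.sq

/-! ### the complement `V₀` -/

theorem cj₀ {x v : G} (hx : x ∈ P) (hv : v ∈ V₀) : x * v * x⁻¹ ∈ V₀ := (mem_normalizer_iff.1 (h.nV hx) v).1 hv

theorem inj₀ {v w : G} (hv : v ∈ V₀) (hw : w ∈ V₀) (he : M.e v = M.e w) : v = w := by
  have hm := mul_mem hv (inv_mem hw)
  have h1 : v * w⁻¹ ∈ D := by
    rw [← M.ker _ (h.V₀V hm), M.mul _ (h.V₀V hv) _ (inv_mem (h.V₀V hw)), e_inv M (h.V₀V hw), he, add_neg_cancel]
  have h2 : v * w⁻¹ ∈ V₀ ⊓ D := ⟨hm, h1⟩
  rw [h.inf, mem_bot] at h2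
  exact mul_inv_eq_one.1 h2

theorem exists_mul {v : G} (hv : v ∈ zl (S : Subgroup G) P) : ∃ a ∈ V₀, ∃ d ∈ D, v = a * d := by
  have h2 : D ≤ normalizer (V₀ : Set G) := ((h.DV.trans h.VS).trans h.SP).trans h.nV
  have h3 : v ∈ ((V₀ : Set G) * (D : Set G)) := by
    rw [← coe_mul_of_right_le_normalizer_left _ _ h2]
    exact h.sup hv
  obtain ⟨x, hx, ε, hε, rfl⟩ := Set.mem_mul.1 h3
  exact ⟨x, hx, ε, hε, rfl⟩

theorem surj₀ (x : Fin k → Fin 2 → F) : ∃ v ∈ V₀, M.e v = x := by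
  obtain ⟨v, hv, he⟩ := M.surj x
  obtain ⟨a, ha, d, hd, rfl⟩ := h.exists_mul hv
  refine ⟨a, ha, ?_⟩
  rw [← he, M.mul _ (h.V₀V ha) _ (h.DV hd), (M.ker d (h.DV hd)).2 hd, add_zero]

/-- `D ≤ C(P)`. -/
theorem DP : D ≤ centralizer (P : Set G) := by
  -- the `D`-parts of the elements of `Z`
  have hPD : P ≤ normalizer (D : Set G) := by
    intro g hg
    have ker' : ∀ g ∈ P, ∀ v ∈ zl (S : Subgroup G) P, M.e v = 0 → M.e (g * v * g⁻¹) = 0 := by
      intro g hg v hv h0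
      obtain ⟨σ, hσ⟩ := M.perm g hg
      funext i
      obtain ⟨j, rfl⟩ := σ.surjective i
      exact (hσ v hv j).2 (congrFun h0 j)
    have key : ∀ g ∈ P, ∀ v ∈ D, g * v * g⁻¹ ∈ D := fun g hg v hv =>
      (M.ker _ (cj_mem hg (h.DV hv))).1 (ker' g hg v (h.DV hv) ((M.ker v (h.DV hv)).2 hv))
    rw [mem_normalizer_iff]
    intro v
    refine ⟨key g hg v, fun hv => ?_⟩
    have h1 := key g⁻¹ (inv_mem hg) _ hv
    have e : g⁻¹ * (g * v * g⁻¹) * g⁻¹⁻¹ = v := by group
    rwa [e] at h1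
  have hZ : ∀ a ∈ V₀, ∀ d ∈ D, a * d ∈ zc (S : Subgroup G) → d ∈ centralizer (P : Set G) := by
    intro a ha d hd hz
    have h1 : P ≤ centralizer ({d} : Set G) := by
      refine M.gen _ (fun s hs => ?_) fun g _ A hA => mem_centralizer_singleton_iff.2 (hA.2 d hd)
      have h2 : s * (a * d) * s⁻¹ = a * d := by
        rw [(mem_zc.1 hz).2.1 s hs, mul_inv_cancel_right]
      have h3 : a⁻¹ * (s * a * s⁻¹) ∈ V₀ ⊓ D := by
        refine mem_inf.2 ⟨V₀.mul_mem (V₀.inv_mem ha) (h.cj₀ (h.SP hs) ha), ?_⟩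
        have e : a⁻¹ * (s * a * s⁻¹) = a⁻¹ * (s * (a * d) * s⁻¹) * (s * d * s⁻¹)⁻¹ := by group
        rw [e, h2, inv_mul_cancel_left]
        exact D.mul_mem hd (D.inv_mem ((mem_normalizer_iff.1 (hPD (h.SP hs)) d).1 hd))
      rw [h.inf, mem_bot] at h3
      have h4 : s * a * s⁻¹ = a := (inv_mul_eq_one.1 h3).symm
      have h5 : s * d * s⁻¹ = d := by
        have e : s * (a * d) * s⁻¹ = (s * a * s⁻¹) * (s * d * s⁻¹) := by group
        rw [e, h4] at h2
        exact mul_left_cancel h2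
      exact mem_centralizer_singleton_iff.2 (mul_inv_eq_iff_eq_mul.1 h5)
    rw [mem_centralizer_iff]
    intro p hp
    exact mem_centralizer_singleton_iff.1 (h1 hp)
  -- `V ≤ V₀ C_D(P)`
  have hn1 : P ≤ normalizer ((D ⊓ centralizer (P : Set G) : Subgroup G) : Set G) := by
    intro g hg
    rw [mem_normalizer_iff]
    intro x
    constructor
    · intro hx
      have e : g * x * g⁻¹ = x := by
        rw [mem_centralizer_iff.1 hx.2 g hg, mul_inv_cancel_right]
      rw [e]; exact hx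
    · intro hx
      have h1 := mem_centralizer_iff.1 hx.2 g hg
      have e : x = g * x * g⁻¹ := by
        have h2 : g * x = g * x * g⁻¹ * g := by group
        rw [← h1] at h2
        exact (mul_left_cancel h2)
      rw [e]; exact hx
  have hV : zl (S : Subgroup G) P ≤ V₀ ⊔ (D ⊓ centralizer (P : Set G)) := by
    refine zl_le (fun z hz => ?_) ?_
    · obtain ⟨a, ha, d, hd, rfl⟩ := h.exists_mul (zc_le_zl _ _ hz)
      exact mul_mem ((le_sup_left : V₀ ≤ _) ha)
        ((le_sup_right : D ⊓ centralizer (P : Set G) ≤ _) ⟨hd, hZ a ha d hd hz⟩)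
    · exact RTools.le_normalizer_sup h.nV hn1
  intro d hd
  have h2 : (D ⊓ centralizer (P : Set G) : Subgroup G) ≤ normalizer (V₀ : Set G) :=
    (inf_le_left.trans ((h.DV.trans h.VS).trans h.SP)).trans h.nV
  have h3 : d ∈ ((V₀ : Set G) * ((D ⊓ centralizer (P : Set G) : Subgroup G) : Set G)) := by
    rw [← coe_mul_of_right_le_normalizer_left _ _ h2]
    exact hV (h.DV hd)
  obtain ⟨x, hx, ε, hε, he⟩ := Set.mem_mul.1 h3
  have h4 : x ∈ V₀ ⊓ D := by
    refine ⟨hx, ?_⟩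
    have e : x = d * ε⁻¹ := by rw [← he]; group
    rw [e]
    exact D.mul_mem hd (D.inv_mem hε.1)
  rw [h.inf, mem_bot] at h4
  rw [← he, h4, one_mul]
  exact hε.2

theorem UD : zl (S : Subgroup G) H ≤ centralizer (D : Set G) := by
  rw [le_centralizer_iff]
  exact h.DP.trans (centralizer_le h.UP)

omit h in
/-- The `i`-th factor of `V₀`. -/
def fac (V₀ : Subgroup G) (M : NatK F (S : Subgroup G) P (zl (S : Subgroup G) P) D k) (i : Fin k) : Subgroup G where
  carrier := {v | (v ∈ V₀ ∧ v ∈ zl (S : Subgroup G) P) ∧ ∀ j, j ≠ i → M.e v j = 0}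
  one_mem' := ⟨⟨one_mem _, one_mem _⟩, fun i _ => by rw [e_one M]; rfl⟩
  mul_mem' := by
    rintro a b ⟨ha, ha'⟩ ⟨hb, hb'⟩
    exact ⟨⟨mul_mem ha.1 hb.1, mul_mem ha.2 hb.2⟩, fun i hi => by
      rw [M.mul a ha.2 b hb.2, Pi.add_apply, ha' i hi, hb' i hi, add_zero]⟩
  inv_mem' := by
    rintro a ⟨ha, ha'⟩
    exact ⟨⟨inv_mem ha.1, inv_mem ha.2⟩, fun i hi => by rw [e_inv M ha.2, Pi.neg_apply, ha' i hi, neg_zero]⟩

omit h in
/-- The line of the `i`-th factor of `V₀`. -/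
def lin (V₀ : Subgroup G) (M : NatK F (S : Subgroup G) P (zl (S : Subgroup G) P) D k) (i : Fin k) : Subgroup G where
  carrier := {v | v ∈ fac V₀ M i ∧ M.e v i 1 = 0}
  one_mem' := ⟨one_mem _, by rw [e_one M]; rfl⟩
  mul_mem' := by
    rintro a b ⟨ha, ha'⟩ ⟨hb, hb'⟩
    exact ⟨mul_mem ha hb, by
      rw [M.mul a ha.1.2 b hb.1.2, Pi.add_apply, Pi.add_apply, ha', hb', add_zero]⟩
  inv_mem' := by
    rintro a ⟨ha, ha'⟩
    exact ⟨inv_mem ha, by rw [e_inv M ha.1.2, Pi.neg_apply, Pi.neg_apply, ha', neg_zero]⟩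

omit h [Finite G] in
theorem mem_fac {i : Fin k} {v : G} :
    v ∈ fac V₀ M i ↔ (v ∈ V₀ ∧ v ∈ zl (S : Subgroup G) P) ∧ ∀ j, j ≠ i → M.e v j = 0 := Iff.rfl

omit h [Finite G] in
theorem mem_lin {i : Fin k} {v : G} : v ∈ lin V₀ M i ↔ v ∈ fac V₀ M i ∧ M.e v i 1 = 0 := Iff.rfl

theorem exists_fac (i : Fin k) (x : Fin 2 → F) : ∃ v ∈ fac V₀ M i, M.e v i = x := by
  classical
  obtain ⟨v, hv, he⟩ := h.surj₀ (Pi.single i x)
  exact ⟨v, ⟨⟨hv, h.V₀V hv⟩, fun j hj => by rw [he, Pi.single_eq_of_ne hj]⟩, by rw [he, Pi.single_eq_same]⟩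

omit h [Finite G] in
theorem vec_ex (h : ∀ x : Fin k → Fin 2 → F, ∃ v ∈ V₀, M.e v = x) (x : Fin k → F) :
    ∃ v ∈ V₀, M.e v = fun i => ![x i, 0] := h _

/-- The element of `V₀` with coordinates `![x i, 0]`. -/
noncomputable def vec (x : Fin k → F) : G := (h.surj₀ fun i => ![x i, 0]).choose

theorem vec_mem (x : Fin k → F) : h.vec x ∈ V₀ := (h.surj₀ fun i => ![x i, 0]).choose_spec.1

theorem e_vec (x : Fin k → F) (i : Fin k) : M.e (h.vec x) i = ![x i, 0] :=
  congrFun (h.surj₀ fun i => ![x i, 0]).choose_spec.2 i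

theorem vec_add (x y : Fin k → F) : h.vec (x + y) = h.vec x * h.vec y := by
  refine h.inj₀ (h.vec_mem _) (mul_mem (h.vec_mem x) (h.vec_mem y)) (funext fun i => ?_)
  rw [M.mul _ (h.V₀V (h.vec_mem x)) _ (h.V₀V (h.vec_mem y)), Pi.add_apply, e_vec, e_vec, e_vec]
  apply NatPair.ext2 <;> simp

theorem vec_inj : Function.Injective h.vec := by
  intro x y hxy
  funext i
  have h1 := h.e_vec x i
  rw [hxy, e_vec] at h1
  exact (congrFun h1 0).symm

theorem vec_single_mem (i : Fin k) (c : F) : h.vec (Pi.single i c) ∈ lin V₀ M i := by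
  refine ⟨⟨⟨h.vec_mem _, h.V₀V (h.vec_mem _)⟩, fun j hj => ?_⟩, ?_⟩
  · rw [e_vec, Pi.single_eq_of_ne hj]
    apply NatPair.ext2 <;> simp
  · rw [e_vec]; rfl

theorem mem_lin_iff (i : Fin k) (g : G) : g ∈ lin V₀ M i ↔ ∃ c : F, h.vec (Pi.single i c) = g := by
  constructor
  · intro hg
    refine ⟨M.e g i 0, h.inj₀ (h.vec_mem _) hg.1.1.1 (funext fun j => ?_)⟩
    by_cases hj : j = i
    · subst hj
      rw [e_vec, Pi.single_eq_same]
      apply NatPair.ext2
      · rfl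
      · exact hg.2.symm
    · rw [e_vec, Pi.single_eq_of_ne hj, hg.1.2 j hj]
      apply NatPair.ext2 <;> simp
  · rintro ⟨c, rfl⟩
    exact h.vec_single_mem i c

theorem eq_vec {v : G} (hv : v ∈ V₀) (h1 : ∀ i, M.e v i 1 = 0) : h.vec (fun i => M.e v i 0) = v := by
  refine h.inj₀ (h.vec_mem _) hv (funext fun i => ?_)
  rw [e_vec]
  apply NatPair.ext2
  · rfl
  · exact (h1 i).symm

theorem cj_fac {s : G} (hs : s ∈ P) (i : Fin k) : cj s (fac V₀ M i) = fac V₀ M (sg M hs i) := by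
  have key : ∀ {t : G} (ht : t ∈ P) (i : Fin k), ∀ v ∈ fac V₀ M i, t * v * t⁻¹ ∈ fac V₀ M (sg M ht i) := by
    intro t ht i v hv
    refine ⟨⟨h.cj₀ ht hv.1.1, cj_mem ht hv.1.2⟩, fun j hj => ?_⟩
    obtain ⟨l, rfl⟩ := (sg M ht).surjective j
    exact (sg_spec M ht hv.1.2 l).2 (hv.2 l fun h0 => hj (by rw [h0]))
  ext v
  rw [mem_cj]
  constructor
  · intro hv
    have h1 := key hs i _ hv
    have e : s * (s⁻¹ * v * s) * s⁻¹ = v := by group
    rwa [e] at h1
  · intro hv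
    have hv' : s⁻¹ * v * s ∈ V₀ := by
      have := h.cj₀ (inv_mem hs) hv.1.1
      rwa [inv_inv] at this
    refine ⟨⟨hv', h.V₀V hv'⟩, fun j hj => ?_⟩
    have h1 := (sg_spec M hs (h.V₀V hv') j)
    have e : s * (s⁻¹ * v * s) * s⁻¹ = v := by group
    rw [e] at h1
    exact h1.1 (hv.2 _ fun h0 => hj ((sg M hs).injective h0))

/-- `S` is transitive on the factors -/
theorem exists_trans (i j : Fin k) : ∃ t ∈ (S : Subgroup G), ∃ ht : t ∈ P, sg M ht i = j := by
  obtain ⟨t, ht, h1⟩ := M.trans i j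
  refine ⟨t, ht, h.SP ht, ?_⟩
  by_contra hne
  -- a vector of the factor `i`
  obtain ⟨v, hv, he⟩ := h.exists_fac i ![1, 0]
  obtain ⟨l, hl⟩ := (sg M (h.SP ht)).surjective j
  have hli : l ≠ i := by
    rintro rfl
    exact hne hl
  have h2 := (sg_spec M (h.SP ht) hv.1.2 l).2 (hv.2 l hli)
  rw [hl] at h2
  have h3 := (h1 v hv.1.2).1 h2
  rw [he] at h3
  have := congrFun h3 0
  simp at this

variable [CharP F 2]

theorem exists_b {u : G} (hu : u ∈ zl (S : Subgroup G) H) : ∃ b : Fin k → F, Up M u b :=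
  RStr.exists_up h.quad M hu

omit [CharP F 2] in
theorem cm₀ {u v : G} (hu : u ∈ P) (hv : v ∈ V₀) : u * v * u⁻¹ * v⁻¹ ∈ V₀ := mul_mem (h.cj₀ hu hv) (inv_mem hv)

omit [CharP F 2] in
theorem b_zero_iff {u : G} (hu : u ∈ P) {b : Fin k → F} (hb : Up M u b) (i : Fin k) :
    b i = 0 ↔ u ∈ centralizer (fac V₀ M i : Set G) := by
  constructor
  · intro h0
    rw [mem_centralizer_iff]
    intro v hv
    have h1 : u * v * u⁻¹ * v⁻¹ = 1 := by
      refine h.inj₀ (h.cm₀ hu hv.1.1) (one_mem _) (funext fun j => ?_)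
      rw [hb.cm hu hv.1.2 j, e_one M]
      by_cases hj : j = i
      · rw [hj, h0, zero_mul]
        apply NatPair.ext2 <;> rfl
      · rw [hv.2 j hj]
        apply NatPair.ext2 <;> simp
    calc v * u = 1 * (v * u) := by rw [one_mul]
      _ = u * v * u⁻¹ * v⁻¹ * (v * u) := by rw [h1]
      _ = u * v := by group
  · intro hc
    obtain ⟨v, hv, he⟩ := h.exists_fac i ![0, 1]
    have h1 := mem_centralizer_iff.1 hc v hv
    have h2 : u * v * u⁻¹ * v⁻¹ = 1 := by rw [← h1]; group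
    have h3 := hb.cm hu hv.1.2 i
    rw [h2, e_one M, he] at h3
    have := congrFun h3 0
    simpa using this.symm

omit [CharP F 2] in
/-- trivial action and `[u, D] = 1` -/
theorem cent_of {u : G} (hu : u ∈ zl (S : Subgroup G) H) {b : Fin k → F} (hb : Up M u b) (h0 : b = 0) :
    u ∈ centralizer (zl (S : Subgroup G) P : Set G) := by
  have huP := h.UP hu
  rw [mem_centralizer_iff]
  intro v hv
  obtain ⟨a, ha, d, hd, rfl⟩ := h.exists_mul hv
  have h1 : u * a * u⁻¹ * a⁻¹ = 1 := by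
    refine h.inj₀ (h.cm₀ huP ha) (one_mem _) (funext fun j => ?_)
    rw [hb.cm huP (h.V₀V ha) j, e_one M, h0, Pi.zero_apply, zero_mul]
    apply NatPair.ext2 <;> rfl
  have h2 : a * u = u * a := by
    calc a * u = 1 * (a * u) := by rw [one_mul]
      _ = u * a * u⁻¹ * a⁻¹ * (a * u) := by rw [h1]
      _ = u * a := by group
  have h3 := mem_centralizer_iff.1 (h.UD hu) d hd
  calc a * d * u = a * (d * u) := by group
    _ = (a * u) * d := by rw [h3]; group
    _ = u * (a * d) := by rw [h2]; group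

/-- `U_H` does not centralise a factor. -/
theorem not_cent (i : Fin k) : ¬ zl (S : Subgroup G) H ≤ centralizer (fac V₀ M i : Set G) := by
  intro hle
  refine h.pair.ne' fun u hu => ?_
  obtain ⟨b, hb⟩ := h.exists_b hu
  refine h.cent_of hu hb (funext fun j => ?_)
  obtain ⟨t, htS, ht, htj⟩ := h.exists_trans i j
  rw [Pi.zero_apply, h.b_zero_iff (h.UP hu) hb j, ← htj, ← h.cj_fac ht i, ← cj_centralizer, mem_cj]
  refine hle ?_
  have := h.nrm t⁻¹ (inv_mem (h.SH htS)) u hu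
  rwa [inv_inv] at this

theorem exists_u (i : Fin k) : ∃ u ∈ zl (S : Subgroup G) H, ∃ b, Up M u b ∧ b i ≠ 0 := by
  obtain ⟨u, hu, hn⟩ := SetLike.not_le_iff_exists.1 (h.not_cent i)
  obtain ⟨b, hb⟩ := h.exists_b hu
  exact ⟨u, hu, b, hb, fun h0 => hn ((h.b_zero_iff (h.UP hu) hb i).1 h0)⟩

/-- the commutator with an element of the factor `i` -/
theorem cm_eq {u v : G} (hu : u ∈ zl (S : Subgroup G) H) {b : Fin k → F} (hb : Up M u b) {i : Fin k}
    (hv : v ∈ fac V₀ M i) : u * v * u⁻¹ * v⁻¹ = h.vec (Pi.single i (b i * M.e v i 1)) := by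
  refine h.inj₀ (h.cm₀ (h.UP hu) hv.1.1) (h.vec_mem _) (funext fun j => ?_)
  rw [hb.cm (h.UP hu) hv.1.2 j, e_vec]
  by_cases hj : j = i
  · subst hj
    rw [Pi.single_eq_same]
  · rw [Pi.single_eq_of_ne hj, hv.2 j hj]
    apply NatPair.ext2 <;> simp

theorem vec_single (i : Fin k) (c : F) : h.vec (Pi.single i c) ∈ zl (S : Subgroup G) H := by
  obtain ⟨u, hu, b, hb, hb0⟩ := h.exists_u i
  obtain ⟨v, hv, he⟩ := h.exists_fac i ![0, c / b i]
  have h1 := h.cm_eq hu hb hv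
  rw [he] at h1
  have h2 : b i * (![0, c / b i] : Fin 2 → F) 1 = c := by
    change b i * (c / b i) = c
    field_simp
  rw [h2] at h1
  rw [← h1]
  have e : u * v * u⁻¹ * v⁻¹ = u * (v * u⁻¹ * v⁻¹) := by group
  rw [e]
  exact mul_mem hu (h.nrm v (h.VH hv.1.2) _ (inv_mem hu))

theorem vec_mem_U (x : Fin k → F) : h.vec x ∈ zl (S : Subgroup G) H := by
  have key : ∀ s : Finset (Fin k), h.vec (∑ i ∈ s, Pi.single i (x i)) ∈ zl (S : Subgroup G) H := by
    intro s
    induction s using Finset.induction_on with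
    | empty =>
      rw [Finset.sum_empty]
      have h1 : h.vec 0 = 1 := by
        refine h.inj₀ (h.vec_mem _) (one_mem _) (funext fun i => ?_)
        rw [e_vec, e_one M]
        apply NatPair.ext2 <;> rfl
      rw [h1]
      exact one_mem _
    | insert a s ha ih =>
      rw [Finset.sum_insert ha, vec_add]
      exact mul_mem (h.vec_single a _) ih
  have h1 := key Finset.univ
  rwa [Finset.univ_sum_single] at h1

/-- `|U : C_U(N_i)| ≤ q` -/
theorem idx [Finite F] (i : Fin k) : Nat.card (zl (S : Subgroup G) H) ≤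
    Nat.card F * Nat.card (zl (S : Subgroup G) H ⊓ centralizer (fac V₀ M i : Set G) : Subgroup G) := by
  set U := zl (S : Subgroup G) H with hU
  set K := U ⊓ centralizer (fac V₀ M i : Set G) with hK
  have hKU : K ≤ U := inf_le_left
  choose! b hb using fun (u : G) (hu : u ∈ U) => h.exists_b hu
  let f : (U ⧸ K.subgroupOf U) → F := fun q => b (q.out : U) i
  have hinj : Function.Injective f := by
    intro q q' hqq
    have hq := hb _ q.out.2
    have hq' := hb _ q'.out.2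
    have h1 : b (q.out : U) i = b (q'.out : U) i := hqq
    have h2 : ((q.out : U) : G)⁻¹ * (q'.out : U) ∈ K := by
      refine ⟨U.mul_mem (U.inv_mem q.out.2) q'.out.2, ?_⟩
      have h3 := Up.mul (h.UP q'.out.2) (Up.inv (h.UP q.out.2) hq) hq'
      refine (h.b_zero_iff (mul_mem (inv_mem (h.UP q.out.2)) (h.UP q'.out.2)) h3 i).1 ?_
      rw [Pi.add_apply, Pi.neg_apply, h1, neg_add_cancel]
    have h3 : (QuotientGroup.mk (q.out : U) : U ⧸ K.subgroupOf U) = QuotientGroup.mk (q'.out : U) := by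
      rw [QuotientGroup.eq, mem_subgroupOf]
      exact h2
    rwa [QuotientGroup.out_eq', QuotientGroup.out_eq'] at h3
  have h1 := Nat.card_le_card_of_injective f hinj
  have hcg : Nat.card (K.subgroupOf U) = Nat.card K := Nat.card_congr (subgroupOfEquivOfLe hKU).toEquiv
  rw [card_eq_card_quotient_mul_card_subgroup (K.subgroupOf U), hcg]
  exact Nat.mul_le_mul_right _ h1

/-! ### full vectors -/

omit [CharP F 2] in
/-- `Z ∩ V₀ ≠ 1` -/
theorem exists_z : ∃ z ∈ zc (S : Subgroup G), z ∈ V₀ ∧ z ≠ 1 := by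
  have : Fact (Nat.Prime 2) := ⟨Nat.prime_two⟩
  have hp : IsPGroup 2 V₀ := S.isPGroup'.to_le (h.V₀V.trans h.VS)
  have hne : V₀ ≠ ⊥ := by
    intro h0
    obtain ⟨v, hv, he⟩ := h.exists_fac ⟨0, h.pos⟩ ![1, 0]
    have h1 := hv.1.1
    rw [h0, mem_bot] at h1
    rw [h1, e_one M] at he
    have := congrFun he 0
    simp at this
  have h2 := Cfsg.Agent.PLocal.OffenderStep.inf_centralizer_ne_bot V₀ (S : Subgroup G) hp S.isPGroup'
    (h.SP.trans h.nV) hne
  obtain ⟨x, hx, hx1⟩ : ∃ x ∈ V₀ ⊓ centralizer ((S : Subgroup G) : Set G), x ≠ 1 := by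
    by_contra hcon
    push Not at hcon
    exact h2 ((eq_bot_iff_forall _).2 hcon)
  refine ⟨x, mem_zc.2 ⟨h.VS (h.V₀V hx.1), fun b hb => mem_centralizer_iff.1 hx.2 b hb, ?_⟩, hx.1, hx1⟩
  rw [pow_two]
  exact h.sqV x (h.V₀V hx.1)

omit [CharP F 2] in
/-- all coordinates of `1 ≠ z ∈ Z ∩ V₀` are nonzero -/
theorem ez_ne {z : G} (hz : z ∈ zc (S : Subgroup G)) (hz0 : z ∈ V₀) (hz1 : z ≠ 1) (i : Fin k) : M.e z i ≠ 0 := by
  intro h0
  apply hz1
  refine h.inj₀ hz0 (one_mem _) (funext fun j => ?_)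
  obtain ⟨t, ht, h1⟩ := M.trans j i
  have h2 : t * z * t⁻¹ = z := by
    rw [(mem_zc.1 hz).2.1 t ht, mul_inv_cancel_right]
  have h3 := h1 z (h.V₀V hz0)
  rw [h2] at h3
  rw [h3.1 h0, e_one M]
  rfl

omit [CharP F 2] in
/-- a full vector of `V₀` is `P`-conjugate to an element of `Z ∩ V₀` -/
theorem exists_full {v : G} (hv : v ∈ V₀) (hf : ∀ i, M.e v i ≠ 0) :
    ∃ b ∈ P, ∃ z ∈ zc (S : Subgroup G), z ∈ V₀ ∧ z ≠ 1 ∧ b * z * b⁻¹ = v := by
  obtain ⟨z, hz, hz0, hz1⟩ := h.exists_z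
  choose A hA using fun i => exists_ap (h.ez_ne hz hz0 hz1 i) (hf i)
  obtain ⟨b, hb, hbA⟩ := M.lift A
  refine ⟨b, hb, z, hz, hz0, hz1, ?_⟩
  refine h.inj₀ (h.cj₀ hb hz0) hv (funext fun i => ?_)
  rw [hbA.1 z (zc_le_zl _ _ hz) i, hA i]

omit [CharP F 2] in
/-- **An element fixing a full vector of `V₀`**: `V` and `V ^ t` commute. -/
theorem fix {v t : G} (hv : v ∈ V₀) (hf : ∀ i, M.e v i ≠ 0) (ht : t * v = v * t) :
    ∀ w ∈ zl (S : Subgroup G) P, ∀ w' ∈ zl (S : Subgroup G) P, t * w * t⁻¹ * w' = w' * (t * w * t⁻¹) := by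
  obtain ⟨b, hb, z, hz, hz0, hz1, hbz⟩ := h.exists_full hv hf
  -- `n = b⁻¹ t b ∈ C_G(z)`
  have hn : b⁻¹ * t * b ∈ centralizer ({z} : Set G) := by
    refine mem_centralizer_singleton_iff.2 ?_
    have e : z = b⁻¹ * v * b := by rw [← hbz]; group
    rw [e]
    calc b⁻¹ * t * b * (b⁻¹ * v * b) = b⁻¹ * (t * v) * b := by group
      _ = b⁻¹ * (v * t) * b := by rw [ht]
      _ = b⁻¹ * v * b * (b⁻¹ * t * b) := by group
  set n := b⁻¹ * t * b with hnn
  have hO := h.hO z hz hz0 hz1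
  have hSL : (S : Subgroup G) ≤ centralizer ({z} : Set G) := fun s hs =>
    mem_centralizer_singleton_iff.2 ((mem_zc.1 hz).2.1 s hs)
  have hL : IsLoc (S : Subgroup G) (centralizer ({z} : Set G)) :=
    isLoc_centralizer S (mem_zc.1 hz).2.2 hz1 hSL
  have hOS : o2 (centralizer ({z} : Set G)) ≤ (S : Subgroup G) := hL.o2_le S
  have hOn : MulAut.conj n • o2 (centralizer ({z} : Set G)) = o2 (centralizer ({z} : Set G)) :=
    Pair.conj_eq_of_mem (Cfsg.Agent.MinSimple.VModule.le_normalizer_o2 _ hn)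
  have D' := GeoLow.geo h.hc h.data
  have key : MulAut.conj n • zl (S : Subgroup G) P ≤
      centralizer ((MulAut.conj (1 : G) • zl (S : Subgroup G) P : Subgroup G) : Set G) := by
    refine D'.noff' h.pair.par h.pair.par ?_ ?_
    · rw [map_one, one_smul]
      have h1 : MulAut.conj n • zl (S : Subgroup G) P ≤ MulAut.conj n • o2 (centralizer ({z} : Set G)) :=
        NoFF.Basic.conj_le_iff.2 hO
      rw [hOn] at h1
      exact (h1.trans hOS).trans h.SP
    · rw [map_one, one_smul]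
      refine hO.trans ?_
      rw [← hOn]
      exact NoFF.Basic.conj_le_iff.2 (hOS.trans h.SP)
  rw [map_one, one_smul] at key
  intro w hw w' hw'
  have hb1 : b⁻¹ * w * b ∈ zl (S : Subgroup G) P := cj_mem' hb hw
  have hb2 : b⁻¹ * w' * b ∈ zl (S : Subgroup G) P := cj_mem' hb hw'
  have h3 : n * (b⁻¹ * w * b) * n⁻¹ ∈ MulAut.conj n • zl (S : Subgroup G) P := by
    rw [NoFF.Basic.mem_conj]
    have e : n⁻¹ * (n * (b⁻¹ * w * b) * n⁻¹) * n = b⁻¹ * w * b := by group
    rwa [e]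
  have h4 := mem_centralizer_iff.1 (key h3) _ hb2
  have e1 : t * w * t⁻¹ = b * (n * (b⁻¹ * w * b) * n⁻¹) * b⁻¹ := by rw [hnn]; group
  rw [e1]
  calc b * (n * (b⁻¹ * w * b) * n⁻¹) * b⁻¹ * w' =
      b * (n * (b⁻¹ * w * b) * n⁻¹ * (b⁻¹ * w' * b)) * b⁻¹ := by group
    _ = b * (b⁻¹ * w' * b * (n * (b⁻¹ * w * b) * n⁻¹)) * b⁻¹ := by rw [h4]
    _ = w' * (b * (n * (b⁻¹ * w * b) * n⁻¹) * b⁻¹) := by group

/-- the axes -/
abbrev Kx (V₀ : Subgroup G) (M : NatK F (S : Subgroup G) P (zl (S : Subgroup G) P) D k) (H : Subgroup G)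
    (i : Fin k) : Subgroup G := zl (S : Subgroup G) H ⊓ centralizer (fac V₀ M i : Set G)

/-- **Some axis does not contain `R`.** -/
theorem ex : ∃ x ∈ H, ∃ j w, h.vec w ∉ cj x (Kx V₀ M H j) := by
  by_contra hcon
  push Not at hcon
  -- `J = ⟨R^H⟩`
  set J : Subgroup G := closure {y | ∃ x ∈ H, ∃ w, y = x * h.vec w * x⁻¹} with hJ
  have hJK : ∀ j, J ≤ Kx V₀ M H j := by
    intro j
    rw [hJ, closure_le]
    rintro y ⟨x, hx, w, rfl⟩
    have h1 := hcon x⁻¹ (inv_mem hx) j w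
    rw [mem_cj, inv_inv] at h1
    exact h1
  have hJU : J ≤ zl (S : Subgroup G) H := (hJK ⟨0, h.pos⟩).trans inf_le_left
  have hHJ : H ≤ normalizer (J : Set G) := by
    have key : ∀ x ∈ H, ∀ y ∈ J, x * y * x⁻¹ ∈ J := by
      intro x hx y hy
      have h1 : J ≤ cj x⁻¹ J := by
        conv_lhs => rw [hJ]
        rw [closure_le]
        rintro y ⟨x', hx', w, rfl⟩
        rw [SetLike.mem_coe, mem_cj, inv_inv]
        refine subset_closure ⟨x * x', mul_mem hx hx', w, by group⟩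
      have h2 := h1 hy
      rwa [mem_cj, inv_inv] at h2
    intro x hx
    rw [mem_normalizer_iff]
    intro y
    refine ⟨key x hx y, fun hy => ?_⟩
    have h1 := key x⁻¹ (inv_mem hx) _ hy
    have e : x⁻¹ * (x * y * x⁻¹) * x⁻¹⁻¹ = y := by group
    rwa [e] at h1
  -- `J` centralises `V`
  have hJV : ∀ y ∈ J, y ∈ centralizer (zl (S : Subgroup G) P : Set G) := by
    intro y hy
    obtain ⟨b, hb⟩ := h.exists_b (hJU hy)
    exact h.cent_of (hJU hy) hb (funext fun j => (h.b_zero_iff (h.UP (hJU hy)) hb j).2 (hJK j hy).2)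
  -- `V` centralises `U`
  refine h.pair.ne fun v hv => ?_
  obtain ⟨a, ha, d, hd, rfl⟩ := h.exists_mul hv
  refine mul_mem ?_ ?_
  · refine RTransv.le_centralizer S h.SH hJU hHJ h.sq ⟨le_normalizer_zl _ _ (h.VH (h.V₀V ha)), fun u hu => ?_⟩ ?_
    · obtain ⟨b, hb⟩ := h.exists_b hu
      have h1 : u * a * u⁻¹ * a⁻¹ = h.vec fun i => b i * M.e a i 1 := by
        refine h.inj₀ (h.cm₀ (h.UP hu) ha) (h.vec_mem _) (funext fun j => ?_)
        rw [hb.cm (h.UP hu) (h.V₀V ha) j, e_vec]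
      have h2 : h.vec (fun i => b i * M.e a i 1) ∈ J := by
        refine subset_closure ⟨1, one_mem _, fun i => b i * M.e a i 1, ?_⟩
        rw [one_mul, inv_one, mul_one]
      have e : a * u * a⁻¹ * u⁻¹ = (u * a * u⁻¹ * a⁻¹)⁻¹ := by group
      rw [e, h1]
      exact inv_mem h2
    · rw [mem_centralizer_iff]
      intro y hy
      exact (mem_centralizer_iff.1 (hJV y hy) a (h.V₀V ha)).symm
  · rw [mem_centralizer_iff]
    intro u hu
    exact (mem_centralizer_iff.1 (h.UD hu) d hd).symm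

/-- **The family.** -/
theorem axR [Finite F] : AxR H (zl (S : Subgroup G) H) (Kx V₀ M H) (lin V₀ M) (fac V₀ M) h.vec where
  MU := h.nrm
  ab := h.ab
  sq := h.sq
  KU := fun i => inf_le_left
  add := h.vec_add
  inj := h.vec_inj
  LK := fun x i => ⟨h.vec_mem_U x, mem_centralizer_iff.2 fun v hv => h.abV v hv.1.2 _ (h.V₀V (h.vec_mem x))⟩
  memR := h.mem_lin_iff
  NM := fun i v hv => h.VH hv.1.2
  cent := fun i a ha t ht => (mem_centralizer_iff.1 ha.2 t ht).symm
  comm := by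
    intro i u hu t ht
    obtain ⟨b, hb⟩ := h.exists_b hu
    rw [h.cm_eq hu hb ht]
    exact h.vec_single_mem i _
  full := by
    intro i u hu huK y hy
    obtain ⟨b, hb⟩ := h.exists_b hu
    have hbi : b i ≠ 0 := fun h0 => huK ⟨hu, (h.b_zero_iff (h.UP hu) hb i).1 h0⟩
    obtain ⟨c, rfl⟩ := (h.mem_lin_iff i y).1 hy
    obtain ⟨t, ht, hte⟩ := h.exists_fac i ![0, c / b i]
    refine ⟨t, ht, ?_⟩
    rw [h.cm_eq hu hb ht, hte]
    have h2 : b i * (![0, c / b i] : Fin 2 → F) 1 = c := by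
      change b i * (c / b i) = c
      field_simp
    rw [h2]
  idx := h.idx
  trans := by
    intro i j
    obtain ⟨t, htS, ht, htj⟩ := h.exists_trans i j
    refine ⟨t, h.SH htS, ?_, fun w => ?_, ?_⟩
    · rw [Kx, cj_inf, cj_centralizer, h.cj_fac ht i, htj, cj_eq_of_mem_normalizer (le_normalizer_zl _ _ (h.SH htS))]
    · refine ⟨fun l => M.e (t * h.vec w * t⁻¹) l 0, (h.eq_vec (h.cj₀ ht (h.vec_mem w)) fun l => ?_).symm⟩
      obtain ⟨m, rfl⟩ := (sg M ht).surjective l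
      exact (e_conj_line M h.SP htS (h.V₀V (h.vec_mem w)) m).2 (by rw [h.e_vec]; rfl)
    · have h1 : t * h.vec (Pi.single i 1) * t⁻¹ ∈ lin V₀ M j := by
        have h2 : t * h.vec (Pi.single i 1) * t⁻¹ ∈ fac V₀ M j := by
          rw [← htj, ← h.cj_fac ht i, mem_cj]
          have e : t⁻¹ * (t * h.vec (Pi.single i 1) * t⁻¹) * t = h.vec (Pi.single i 1) := by group
          rw [e]
          exact (h.vec_single_mem i 1).1
        refine ⟨h2, ?_⟩
        rw [← htj]
        exact (e_conj_line M h.SP htS (h.V₀V (h.vec_mem _)) i).2 (by rw [h.e_vec]; rfl)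
      obtain ⟨d, hd⟩ := (h.mem_lin_iff j _).1 h1
      exact ⟨d, hd.symm⟩
  ex := h.ex
  fix := by
    intro x hx t ht htx w j
    refine ⟨h.nrm t ht _ (h.vec_mem_U w), mem_centralizer_iff.2 fun v hv => ?_⟩
    have hf : ∀ i, M.e (h.vec x) i ≠ 0 := by
      intro i h0
      rw [e_vec] at h0
      exact hx i (congrFun h0 0)
    exact (h.fix (h.vec_mem x) hf htx _ (h.V₀V (h.vec_mem w)) v hv.1.2).symm

/-- **THEOREM EXACT with radical**: `U_H` induces all upper unitriangular elements of `SL₂(F)^k` on `V / D`. -/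
theorem ind [Finite F] (hF : 2 < Nat.card F) (b₀ : Fin k → F) : ∃ u ∈ zl (S : Subgroup G) H, Up M u b₀ := by
  set U := zl (S : Subgroup G) H with hU
  have hax := h.axR
  -- an element moving only the factor `i`
  have key : ∀ (i : Fin k) (c : F), ∃ u ∈ U, Up M u (Pi.single i c) := by
    intro i c
    obtain ⟨hex, hcard⟩ := hax.exact hF i
    choose! b hb using fun (u : G) (hu : u ∈ U) => h.exists_b hu
    set K := U ⊓ centralizer (fac V₀ M i : Set G) with hK
    have hKU : K ≤ U := inf_le_left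
    let f : (U ⧸ K.subgroupOf U) → F := fun q => b (q.out : U) i
    have hinj : Function.Injective f := by
      intro q q' hqq
      have hq := hb _ q.out.2
      have hq' := hb _ q'.out.2
      have h1 : b (q.out : U) i = b (q'.out : U) i := hqq
      have h2 : ((q.out : U) : G)⁻¹ * (q'.out : U) ∈ K := by
        refine ⟨U.mul_mem (U.inv_mem q.out.2) q'.out.2, ?_⟩
        have h3 := Up.mul (h.UP q'.out.2) (Up.inv (h.UP q.out.2) hq) hq'
        refine (h.b_zero_iff (mul_mem (inv_mem (h.UP q.out.2)) (h.UP q'.out.2)) h3 i).1 ?_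
        rw [Pi.add_apply, Pi.neg_apply, h1, neg_add_cancel]
      have h3 : (QuotientGroup.mk (q.out : U) : U ⧸ K.subgroupOf U) = QuotientGroup.mk (q'.out : U) := by
        rw [QuotientGroup.eq, mem_subgroupOf]
        exact h2
      rwa [QuotientGroup.out_eq', QuotientGroup.out_eq'] at h3
    have hcg : Nat.card (K.subgroupOf U) = Nat.card K := Nat.card_congr (subgroupOfEquivOfLe hKU).toEquiv
    have hq : Nat.card F ≤ Nat.card (U ⧸ K.subgroupOf U) := by
      rw [card_eq_card_quotient_mul_card_subgroup (K.subgroupOf U), hcg] at hcard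
      exact (Nat.eq_of_mul_eq_mul_right Nat.card_pos hcard).ge
    have hbij := hinj.bijective_of_nat_card_le hq
    obtain ⟨q, hq⟩ := hbij.2 c
    obtain ⟨y, hy, hyl, hyi⟩ := hex _ q.out.2
    refine ⟨y, hy, ?_⟩
    have h1 : b y = Pi.single i c := by
      funext l
      by_cases hl : l = i
      · subst hl
        rw [Pi.single_eq_same]
        have h3 := Up.mul (h.UP q.out.2) (Up.inv (h.UP hy) (hb y hy)) (hb _ q.out.2)
        have h4 := (h.b_zero_iff (mul_mem (inv_mem (h.UP hy)) (h.UP q.out.2)) h3 l).2 hyi.2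
        rw [Pi.add_apply, Pi.neg_apply, neg_add_eq_zero] at h4
        rw [h4]
        exact hq
      · rw [Pi.single_eq_of_ne hl]
        exact (h.b_zero_iff (h.UP hy) (hb y hy) l).2 (hyl l hl).2
    rw [← h1]
    exact hb y hy
  have key2 : ∀ s : Finset (Fin k), ∃ u ∈ U, Up M u (∑ i ∈ s, Pi.single i (b₀ i)) := by
    intro s
    induction s using Finset.induction_on with
    | empty =>
      refine ⟨1, one_mem _, ?_⟩
      rw [Finset.sum_empty]
      intro v hv i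
      rw [Pi.zero_apply, up_zero, ap_one, one_mul, inv_one, mul_one]
    | insert a s ha ih =>
      obtain ⟨u, hu, hub⟩ := ih
      obtain ⟨v, hv, hvb⟩ := key a (b₀ a)
      refine ⟨v * u, mul_mem hv hu, ?_⟩
      rw [Finset.sum_insert ha]
      exact Up.mul (h.UP hu) hvb hub
  obtain ⟨u, hu, hub⟩ := key2 Finset.univ
  rw [Finset.univ_sum_single] at hub
  exact ⟨u, hu, hub⟩

/-- **`U_H` offends on `V_P`.** -/
theorem off [Finite F] (hF : 2 < Nat.card F) : Off (zl (S : Subgroup G) P) (zl (S : Subgroup G) H) := by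
  refine ⟨FFThm.elem_zl h.hc S h.pair.long.loc, h.pair.ne', ?_⟩
  rw [FFThm.relIndex_le_iff]
  set U := zl (S : Subgroup G) H with hU
  -- `|V : C_V(U)| ≤ q ^ k`
  have h1 : (centralizer (U : Set G)).relIndex (zl (S : Subgroup G) P) ≤ Nat.card (Fin k → F) := by
    let f : (zl (S : Subgroup G) P ⧸ (centralizer (U : Set G)).subgroupOf (zl (S : Subgroup G) P)) → (Fin k → F) :=
      fun q i => M.e (q.out : zl (S : Subgroup G) P) i 1
    have hinj : Function.Injective f := by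
      intro q q' hqq
      have h1 : ∀ i, M.e (q.out : zl (S : Subgroup G) P) i 1 = M.e (q'.out : zl (S : Subgroup G) P) i 1 :=
        fun i => congrFun hqq i
      have h2 : ((q.out : zl (S : Subgroup G) P) : G)⁻¹ * (q'.out : zl (S : Subgroup G) P) ∈
          centralizer (U : Set G) := by
        have hvV : ((q.out : zl (S : Subgroup G) P) : G)⁻¹ * (q'.out : zl (S : Subgroup G) P) ∈
          zl (S : Subgroup G) P := (zl (S : Subgroup G) P).mul_mem ((zl (S : Subgroup G) P).inv_mem q.out.2) q'.out.2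
        have hv1 : ∀ i, M.e (((q.out : zl (S : Subgroup G) P) : G)⁻¹ * (q'.out : zl (S : Subgroup G) P)) i 1 = 0 := by
          intro i
          rw [M.mul _ ((zl (S : Subgroup G) P).inv_mem q.out.2) _ q'.out.2, Pi.add_apply, Pi.add_apply,
            e_inv M q.out.2, Pi.neg_apply, Pi.neg_apply, h1 i, neg_add_cancel]
        obtain ⟨a, ha, d, hd, hvd⟩ := h.exists_mul hvV
        rw [hvd] at hv1 ⊢
        refine mem_centralizer_iff.2 fun u hu => ?_
        obtain ⟨b, hb⟩ := h.exists_b hu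
        have h3 : u * a * u⁻¹ * a⁻¹ = 1 := by
          refine h.inj₀ (h.cm₀ (h.UP hu) ha) (one_mem _) (funext fun i => ?_)
          have h4 := hv1 i
          rw [M.mul _ (h.V₀V ha) _ (h.DV hd), (M.ker d (h.DV hd)).2 hd, add_zero] at h4
          rw [hb.cm (h.UP hu) (h.V₀V ha) i, h4, mul_zero, e_one M]
          apply NatPair.ext2 <;> rfl
        have h5 := mem_centralizer_iff.1 (h.UD hu) d hd
        calc u * (a * d) = u * a * u⁻¹ * a⁻¹ * (a * (u * d)) := by group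
          _ = a * (u * d) := by rw [h3, one_mul]
          _ = a * d * u := by rw [← h5]; group
      have h3 : (QuotientGroup.mk (q.out : zl (S : Subgroup G) P) :
          zl (S : Subgroup G) P ⧸ (centralizer (U : Set G)).subgroupOf (zl (S : Subgroup G) P)) =
          QuotientGroup.mk (q'.out : zl (S : Subgroup G) P) := by
        rw [QuotientGroup.eq, mem_subgroupOf]
        exact h2
      rwa [QuotientGroup.out_eq', QuotientGroup.out_eq'] at h3
    exact Nat.card_le_card_of_injective f hinj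
  refine h1.trans ?_
  choose u hu hub using h.ind hF
  let f : (Fin k → F) → (U ⧸ (centralizer (zl (S : Subgroup G) P : Set G)).subgroupOf U) :=
    fun b => QuotientGroup.mk ⟨u b, hu b⟩
  have hinj : Function.Injective f := by
    intro b b' hbb
    have h2 := QuotientGroup.eq.1 hbb
    rw [mem_subgroupOf] at h2
    change (u b)⁻¹ * u b' ∈ centralizer (zl (S : Subgroup G) P : Set G) at h2
    have h3 : Up M ((u b)⁻¹ * u b') (-b + b') :=
      Up.mul (h.UP (hu b')) (Up.inv (h.UP (hu b)) (hub b)) (hub b')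
    funext i
    have h4 : (-b + b') i = 0 := by
      refine (h.b_zero_iff (mul_mem (inv_mem (h.UP (hu b))) (h.UP (hu b'))) h3 i).2 ?_
      exact centralizer_le (fun v hv => (hv.1.2 : v ∈ zl (S : Subgroup G) P)) h2
    rw [Pi.add_apply, Pi.neg_apply, neg_add_eq_zero] at h4
    exact h4
  exact Nat.card_le_card_of_injective f hinj

end Spl

end Cfsg.Agent.Omega.NOThreeL.RBig.AxRInst

end
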